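import Cfsg.Agent.H625.NHPslCross
import Cfsg.Agent.H165.Tri

/-!
# `CrossTri` for `SL_n(F)` and `PSL_n(F)` (helper126, task 2134 of helper165; proof of helper625)
-/

set_option autoImplicit false

namespace Cfsg.Agent.H126.TriSL

open Module Cfsg.Agent.H625.NHLin Cfsg.Agent.H625.NHArith Cfsg.Agent.H625.NHSl Cfsg.Agent.H625.NHTorus
  Cfsg.Agent.H625.NHPsl Cfsg.Agent.H165.TriRow

variable {F : Type*} [Field F] [Fintype F]

/-- the parameter: all the orders of `q` modulo the primes of `π` are equal to `e`, and `n / e < p` -/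
theorem param {n : ℕ} (hn : 2 ≤ n) {π : Set ℕ}
    (hπ : ∀ p ∈ π, p.Prime ∧ p ≠ 2 ∧ ¬ p ∣ Fintype.card F ∧ p ∣ Nat.card (Matrix.SpecialLinearGroup (Fin n) F))
    (hnt : π.Nontrivial) (hc : CondP π (Matrix.SpecialLinearGroup (Fin n) F)) :
    ∃ e : ℕ, 0 < e ∧ ∀ p ∈ π, orderOf ((Fintype.card F : ℕ) : ZMod p) = e ∧ n / e < p := by
  set q := Fintype.card F with hq
  have hq1 : 1 < q := Fintype.one_lt_card
  -- the order of `q` modulo `p`
  have hord : ∀ p ∈ π, 0 < orderOf (q : ZMod p) := by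
    intro p hp
    obtain ⟨hp1, hp2, hp3, hp4⟩ := hπ p hp
    have : Fact p.Prime := ⟨hp1⟩
    have h1 : (q : ZMod p) ≠ 0 := by
      rw [Ne, ZMod.natCast_eq_zero_iff]
      exact hp3
    exact (isOfFinOrder_iff_isUnit.2 (isUnit_iff_ne_zero.2 h1)).orderOf_pos
  have hdv : ∀ p ∈ π, p ∣ q ^ (orderOf (q : ZMod p)) - 1 := fun p _ =>
    (dvd_pow_sub_one_iff (by omega)).2 dvd_rfl
  have hle : ∀ p ∈ π, orderOf (q : ZMod p) ≤ n := by
    intro p hp
    obtain ⟨hp1, hp2, hp3, hp4⟩ := hπ p hp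
    have h1 : p ∣ ∏ i ∈ Finset.range n, (q ^ n - q ^ i) := by
      have h2 : Nat.card (Matrix.SpecialLinearGroup (Fin n) F) ∣ Nat.card (Matrix.GeneralLinearGroup (Fin n) F) :=
        Subgroup.card_dvd_of_injective _ Matrix.SpecialLinearGroup.toGL_injective
      rw [Matrix.card_GL_field, ← Finset.prod_range (fun i => Fintype.card F ^ n - Fintype.card F ^ i)] at h2
      exact hp4.trans h2
    obtain ⟨i, hi, hpi⟩ := (hp1.prime.dvd_finsetProd_iff _).1 h1
    rw [Finset.mem_range] at hi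
    have h3 : q ^ n - q ^ i = q ^ i * (q ^ (n - i) - 1) := by
      rw [Nat.mul_sub, mul_one, ← pow_add]
      congr 2
      omega
    rw [h3] at hpi
    have h4 : p ∣ q ^ (n - i) - 1 := by
      rcases (Nat.Prime.dvd_mul hp1).1 hpi with h | h
      · exact absurd (hp1.dvd_of_dvd_pow h) hp3
      · exact h
    rw [dvd_pow_sub_one_iff (by omega)] at h4
    have := Nat.le_of_dvd (by omega) h4
    omega
  -- claim 1: all orders are equal
  have claim1 : ∀ p ∈ π, ∀ s ∈ π, ¬ orderOf (q : ZMod p) < orderOf (q : ZMod s) := by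
    intro p hp s hs hlt
    have hps : s ≠ p := by rintro rfl; exact lt_irrefl _ hlt
    obtain ⟨hp1, hp2, hp3, hp4⟩ := hπ p hp
    obtain ⟨hs1, hs2, hs3, hs4⟩ := hπ s hs
    obtain ⟨K, _, _, _, _, ζ, hK, hζo, hζ⟩ := exists_gen_one F (hord s hs) hs1 rfl
    have h1 := hord p hp
    have h2 := hord s hs
    have h3 := hle s hs
    have hs1' : ¬ s ∣ Fintype.card F - 1 := by
      intro h
      have h5 : s ∣ q ^ 1 - 1 := by rw [pow_one]; exact h
      rw [dvd_pow_sub_one_iff (by omega)] at h5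
      have := Nat.le_of_dvd one_pos h5
      omega
    obtain ⟨y, hy1, hy2⟩ := exists_elt (n := n) (k := n - orderOf (q : ZMod s)) hK (by omega) (s := s) ζ
      (fun _ => 1) hζ hζo (fun i => by rw [orderOf_one]; exact one_dvd _) hs1
      (by rw [norm_eq_one hs1 hs1' ζ hζo]; simp) (by omega) hp1 h1 hlt (hdv p hp)
    exact hc s hs p hp hps y hy1 hy2
  obtain ⟨p₀, hp₀, s₀, hs₀, hps₀⟩ := hnt
  set e := orderOf (q : ZMod p₀) with he
  have hee : ∀ p ∈ π, orderOf (q : ZMod p) = e := by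
    intro p hp
    have h1 := claim1 p hp p₀ hp₀
    have h2 := claim1 p₀ hp₀ p hp
    omega
  have he0 : 0 < e := hord p₀ hp₀
  have hen : e ≤ n := hle p₀ hp₀
  -- claim 2
  have claim2 : ∀ s ∈ π, ∀ p ∈ π, s ≠ p → e * s < n + 1 → (e ≠ 1 ∨ e * s < n) → False := by
    intro s hs p hp hps hesn hor
    obtain ⟨hp1, hp2, hp3, hp4⟩ := hπ p hp
    obtain ⟨hs1, hs2, hs3, hs4⟩ := hπ s hs
    obtain ⟨K, _, _, _, _, ζ, hK, hζo, hζ⟩ := exists_gen_two F he0 hs1 (hee s hs)
    have hs2' := hs1.two_le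
    have hes : e < e * s := by nlinarith
    have hm2 : 2 ≤ e * s := by nlinarith
    have hpa : p ∣ Fintype.card F ^ e - 1 := by
      have := hdv p hp
      rwa [hee p hp] at this
    by_cases he1 : e = 1
    · -- use a correction
      have hlt : e * s < n := hor.resolve_left (not_not.2 he1)
      set u : Fˣ := Units.map (Algebra.norm F : K →* F) ζ with hu
      obtain ⟨y, hy1, hy2⟩ := exists_elt (n := n) (k := n - e * s) hK (by omega) (s := s) ζ
        (fun i => if i = ⟨0, by omega⟩ then u⁻¹ else 1) hζ hζo (by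
          intro i
          split_ifs
          · rw [orderOf_inv]
            exact orderOf_map_dvd _ ζ
          · rw [orderOf_one]; exact one_dvd _) hs1
        (by
          rw [Finset.prod_eq_single (⟨0, by omega⟩ : Fin (n - e * s))]
          · have : Algebra.norm F (ζ : K) = u := rfl
            rw [this]
            simp
          · intro j _ hj
            simp [hj]
          · intro h; exact absurd (Finset.mem_univ _) h) hm2 hp1 he0 hes hpa
      exact hc s hs p hp hps y hy1 hy2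
    · have hs1' : ¬ s ∣ Fintype.card F - 1 := by
        intro h
        have h5 : s ∣ q ^ 1 - 1 := by rw [pow_one]; exact h
        rw [dvd_pow_sub_one_iff (by omega), hee s hs] at h5
        have := Nat.le_of_dvd one_pos h5
        omega
      obtain ⟨y, hy1, hy2⟩ := exists_elt (n := n) (k := n - e * s) hK (by omega) (s := s) ζ
        (fun _ => 1) hζ hζo (fun i => by rw [orderOf_one]; exact one_dvd _) hs1
        (by rw [norm_eq_one hs1 hs1' ζ hζo]; simp) hm2 hp1 he0 hes hpa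
      exact hc s hs p hp hps y hy1 hy2
  have claim3 : ∀ s ∈ π, ∀ p ∈ π, s ≠ p → n < e * s := by
    intro s hs p hp hps
    by_contra hlt
    obtain ⟨hp1, hp2, hp3, hp4⟩ := hπ p hp
    obtain ⟨hs1, hs2, hs3, hs4⟩ := hπ s hs
    by_cases he1 : e = 1
    · by_cases hlt2 : e * s < n
      · exact claim2 s hs p hp hps (by omega) (Or.inr hlt2)
      · have hsn : s = n := by rw [he1] at hlt hlt2; omega
        -- `n = s`
        rcases lt_or_gt_of_ne hps with h | h
        · have h1 : p ∣ Fintype.card F - 1 := by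
            have := hdv p hp
            rw [hee p hp, he1, pow_one] at this
            exact this
          have h2 : n ∣ Fintype.card F - 1 := by
            have := hdv s hs
            rw [hee s hs, he1, pow_one, hsn] at this
            exact this
          obtain ⟨y, hy1, hy2⟩ := exists_diag (F := F) (n := n) (s := p) (hsn ▸ hs1) hp1 (hsn ▸ h) h1 h2 hp2
          exact hc p hp s hs hps.symm y hy1 (hsn ▸ hy2)
        · refine claim2 p hp s hs hps.symm ?_ (Or.inr ?_)
          · rw [he1]; omega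
          · rw [he1]; omega
    · exact claim2 s hs p hp hps (by omega) (Or.inl he1)
  have claim4 : ∀ p ∈ π, n / e < p := by
    intro p hp
    rw [Nat.div_lt_iff_lt_mul he0, mul_comm]
    by_cases h : p = p₀
    · exact claim3 p hp s₀ hs₀ (h ▸ hps₀)
    · exact claim3 p hp p₀ hp₀ h
  exact ⟨e, he0, fun p hp => ⟨hee p hp, claim4 p hp⟩⟩

/-- **`CrossTri` for `SL_n(F)`.** -/
theorem crossTri_SL (r : ℕ) [Fact r.Prime] (F : Type) [Field F] [Fintype F] [CharP F r] (n : ℕ)
    (hn : 2 ≤ n) : CrossTri r (Matrix.SpecialLinearGroup (Fin n) F) := by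
  have hdvd : ∀ p : ℕ, p.Prime → p ≠ r → ¬ p ∣ Fintype.card F := by
    intro p hp hpr hd
    obtain ⟨k, hr, hk⟩ := FiniteField.card F r
    rw [hk] at hd
    exact hpr ((Nat.prime_dvd_prime_iff_eq hp hr).1 (hp.dvd_of_dvd_pow hd))
  refine CrossTri.of_torus fun t q₁ q₂ ht h₁ h₂ t2 e1 e2 tr f1 f2 g1 g2 g3 d0 d1 d2 hc1 hc2 => ?_
  obtain ⟨e, he, h3⟩ := param (F := F) hn (π := {t, q₁}) (by
    rintro p (rfl | rfl)
    · exact ⟨ht, t2, hdvd _ ht tr, d0⟩
    · exact ⟨h₁, e1, hdvd _ h₁ f1, d1⟩) (Set.nontrivial_pair g1) hc1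
  obtain ⟨e', he', h4⟩ := param (F := F) hn (π := {t, q₂}) (by
    rintro p (rfl | rfl)
    · exact ⟨ht, t2, hdvd _ ht tr, d0⟩
    · exact ⟨h₂, e2, hdvd _ h₂ f2, d2⟩) (Set.nontrivial_pair g2) hc2
  have hee : e' = e := by
    rw [← (h3 t (by simp)).1, ← (h4 t (by simp)).1]
  subst hee
  obtain ⟨T, hT1, hT2⟩ := torus (F := F) (e := e') (N := n / e') (k := n % e') (n := n) he
    (Nat.div_add_mod n e') (Nat.mod_lt _ he)
  exact ⟨T, hT1, hT2 q₁ h₁ (hdvd _ h₁ f1) (h3 q₁ (by simp)).1 (h3 q₁ (by simp)).2,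
    hT2 q₂ h₂ (hdvd _ h₂ f2) (h4 q₂ (by simp)).1 (h4 q₂ (by simp)).2⟩

/-- **`CrossTri` for `PSL_n(F)`.** -/
theorem crossTri_PSL (r : ℕ) [Fact r.Prime] (F : Type) [Field F] [Fintype F] [CharP F r] (n : ℕ)
    (hn : 2 ≤ n) : CrossTri r (Matrix.ProjectiveSpecialLinearGroup (Fin n) F) :=
  (crossTri_SL r F n hn).quot (QuotientGroup.mk' (Subgroup.center _)) (QuotientGroup.mk'_surjective _)
    (by rw [QuotientGroup.ker_mk'])

end Cfsg.Agent.H126.TriSL
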